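import Cfsg.Agent.Lib.Lie.Theta.Modular

namespace Cfsg.Agent.Lie.Theta

theorem counts_main (B : Matrix (Fin 24) (Fin 24) ℤ) (h : EvenUnimod B)
    (h2 : ∀ x : Fin 24 → ℤ, dotProduct x (B.mulVec x) ≠ 2) :
    {x : Fin 24 → ℤ | dotProduct x (B.mulVec x) = 4}.ncard = 196560 ∧
    {x : Fin 24 → ℤ | dotProduct x (B.mulVec x) = 6}.ncard = 16773120 ∧
    {x : Fin 24 → ℤ | dotProduct x (B.mulVec x) = 8}.ncard = 398034000 := by
  obtain ⟨c2, c3, c4⟩ := counts h h2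
  refine ⟨?_, ?_, ?_⟩
  · exact (ncard_eq_ncnt h 2).trans c2
  · exact (ncard_eq_ncnt h 3).trans c3
  · exact (ncard_eq_ncnt h 4).trans c4

end Cfsg.Agent.Lie.Theta
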