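import Cfsg.Agent.Lib.Lie.Theta.Poisson

/-!
The theta series of a positive definite even unimodular lattice of rank 24 is a modular form of
weight 12 and level one; its coefficients are determined by the numbers of vectors of norm 0 and 2.
-/

noncomputable section

namespace Cfsg.Agent.Lie.Theta

open Matrix Real Complex Finset UpperHalfPlane ModularForm ModularGroup MatrixGroups Manifold
open scoped Topology

/-- Hypotheses on the Gram matrix. -/
structure EvenUnimod (B : Matrix (Fin 24) (Fin 24) ℤ) : Prop where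
  symm : B.IsSymm
  pos : ∀ x : Fin 24 → ℤ, x ≠ 0 → 0 < x ⬝ᵥ (B *ᵥ x)
  even : ∀ x : Fin 24 → ℤ, (2 : ℤ) ∣ x ⬝ᵥ (B *ᵥ x)
  det : B.det = 1

/-- The norm of a vector. -/
def nrm (B : Matrix (Fin 24) (Fin 24) ℤ) (x : Fin 24 → ℤ) : ℤ := x ⬝ᵥ (B *ᵥ x)

/-- The real Gram matrix. -/
def realMat (B : Matrix (Fin 24) (Fin 24) ℤ) : Matrix (Fin 24) (Fin 24) ℝ := B.map (fun z : ℤ => (z : ℝ))

variable {B : Matrix (Fin 24) (Fin 24) ℤ}

lemma nrm_nonneg (h : EvenUnimod B) (x : Fin 24 → ℤ) : 0 ≤ nrm B x := by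
  rcases eq_or_ne x 0 with rfl | hx
  · simp [nrm]
  · exact (h.pos x hx).le

lemma realMat_mulVec (B : Matrix (Fin 24) (Fin 24) ℤ) (x : Fin 24 → ℤ) :
    realMat B *ᵥ icast x = icast (B *ᵥ x) := by
  funext i; simp [realMat, icast, mulVec, dotProduct]

lemma qf_realMat (B : Matrix (Fin 24) (Fin 24) ℤ) (x : Fin 24 → ℤ) :
    qf (realMat B) (icast x) = (nrm B x : ℝ) := by
  rw [qf, realMat_mulVec]; simp [nrm, icast, dotProduct]

lemma det_realMat (h : EvenUnimod B) : (realMat B).det = 1 := by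
  have := (Int.castRingHom ℝ).map_det B
  rw [h.det, map_one] at this
  exact this.symm

lemma realMat_posDef (h : EvenUnimod B) : (realMat B).PosDef := by
  -- positive semidefinite by density of rational vectors, definite since the determinant is 1
  have hq : ∀ (D : ℕ), 0 < D → ∀ v : Fin 24 → ℤ, 0 ≤ qf (realMat B) ((1 / (D : ℝ)) • icast v) := by
    intro D _ v
    rw [qf_smul, qf_realMat]
    have : (0 : ℝ) ≤ nrm B v := by exact_mod_cast nrm_nonneg h v
    positivity
  have hc : Continuous (qf (realMat B)) := by unfold qf; fun_prop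
  have hnn : ∀ v, 0 ≤ qf (realMat B) v := by
    intro v
    have hlim : Filter.Tendsto
        (fun D : ℕ => (1 / (D : ℝ)) • icast (fun i => ⌊(D : ℝ) * v i⌋)) Filter.atTop (𝓝 v) := by
      refine tendsto_pi_nhds.2 fun i => ?_
      have h1 : Filter.Tendsto (fun D : ℕ => v i - 1 / (D : ℝ)) Filter.atTop (𝓝 (v i)) := by
        simpa using tendsto_const_nhds.sub (tendsto_one_div_atTop_nhds_zero_nat (𝕜 := ℝ))
      refine tendsto_of_tendsto_of_tendsto_of_le_of_le' h1 tendsto_const_nhds ?_ ?_
      all_goals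
        filter_upwards [Filter.eventually_gt_atTop 0] with D hD
        have hD' : (0 : ℝ) < (D : ℕ) := by exact_mod_cast hD
        have l1 := Int.floor_le ((D : ℝ) * v i)
        have l2 := Int.lt_floor_add_one ((D : ℝ) * v i)
        simp only [Pi.smul_apply, icast, smul_eq_mul]
      · refine le_of_mul_le_mul_right ?_ hD'
        have e1 : (v i - 1 / (D : ℝ)) * D = (D : ℝ) * v i - 1 := by field_simp
        have e2 : ∀ f : ℝ, 1 / (D : ℝ) * f * D = f := fun f => by field_simp
        rw [e1, e2]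
        linarith
      · field_simp
        linarith
    refine ge_of_tendsto ((hc.tendsto v).comp hlim) ?_
    filter_upwards [Filter.eventually_gt_atTop 0] with D hD
    exact hq D hD _
  have hherm : (realMat B).IsHermitian := by
    refine Matrix.IsHermitian.ext fun i j => ?_
    simp [realMat, h.symm.apply i j]
  have hps : (realMat B).PosSemidef :=
    posSemidef_iff_dotProduct_mulVec.2 ⟨hherm, fun v => by simpa [qf] using hnn v⟩
  rw [hps.posDef_iff_isUnit, Matrix.isUnit_iff_isUnit_det, det_realMat h]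
  exact isUnit_one

/-- The term of the theta series. -/
def thetaTerm (B : Matrix (Fin 24) (Fin 24) ℤ) (x : Fin 24 → ℤ) (z : ℂ) : ℂ :=
  cexp (π * Complex.I * z * (nrm B x : ℂ))

/-- The theta series. -/
def theta (B : Matrix (Fin 24) (Fin 24) ℤ) (z : ℂ) : ℂ := ∑' x, thetaTerm B x z

lemma norm_thetaTerm (x : Fin 24 → ℤ) (z : ℂ) :
    ‖thetaTerm B x z‖ = Real.exp (-π * (z.im * nrm B x)) := by
  rw [thetaTerm, Complex.norm_exp]
  congr 1
  simp [Complex.mul_re, Complex.mul_im]
  ring

lemma summable_theta_bound (h : EvenUnimod B) {t : ℝ} (ht : 0 < t) :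
    Summable fun x : Fin 24 → ℤ => Real.exp (-π * (t * nrm B x)) := by
  refine (summable_exp_qf ((realMat_posDef h).smul ht) 0).congr fun x => ?_
  rw [sub_zero, qf_smul_mat, qf_realMat]

lemma summable_theta (h : EvenUnimod B) {z : ℂ} (hz : 0 < z.im) :
    Summable fun x => thetaTerm B x z :=
  Summable.of_norm ((summable_theta_bound h hz).congr fun x => (norm_thetaTerm x z).symm)

lemma differentiableOn_theta (h : EvenUnimod B) :
    DifferentiableOn ℂ (theta B) {z : ℂ | 0 < z.im} := by
  intro z hz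
  have hopen : IsOpen {w : ℂ | z.im / 2 < w.im} := isOpen_lt continuous_const Complex.continuous_im
  have hd : DifferentiableOn ℂ (theta B) {w : ℂ | z.im / 2 < w.im} := by
    refine differentiableOn_tsum_of_summable_norm
      (summable_theta_bound h (half_pos hz)) (fun x => ?_) hopen fun x w hw => ?_
    · unfold thetaTerm; fun_prop
    · rw [norm_thetaTerm]
      have hn : (0 : ℝ) ≤ nrm B x := by exact_mod_cast nrm_nonneg h x
      apply Real.exp_le_exp.2
      have : z.im / 2 * nrm B x ≤ w.im * nrm B x := mul_le_mul_of_nonneg_right (le_of_lt hw) hn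
      nlinarith [Real.pi_pos]
  have : z ∈ {w : ℂ | z.im / 2 < w.im} := by
    simp only [Set.mem_ofPred_eq]; exact half_lt_self hz
  exact (hd.differentiableAt (hopen.mem_nhds this)).differentiableWithinAt

lemma theta_add_one (h : EvenUnimod B) (z : ℂ) : theta B (z + 1) = theta B z := by
  refine tsum_congr fun x => ?_
  obtain ⟨k, hk⟩ := h.even x
  rw [thetaTerm, thetaTerm, Complex.exp_eq_exp_iff_exists_int]
  refine ⟨k, ?_⟩
  simp only [nrm, hk]
  push_cast; ring

/-- The bijection given by the Gram matrix. -/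
def gramEquiv (h : EvenUnimod B) : (Fin 24 → ℤ) ≃ (Fin 24 → ℤ) where
  toFun x := B *ᵥ x
  invFun x := B.adjugate *ᵥ x
  left_inv x := by simp [mulVec_mulVec, adjugate_mul, h.det]
  right_inv x := by simp [mulVec_mulVec, mul_adjugate, h.det]

lemma theta_inv_imag (h : EvenUnimod B) {t : ℝ} (ht : 0 < t) :
    theta B ((t : ℂ) * Complex.I) = ((1 / t) ^ 12 : ℝ) * theta B (((1 / t : ℝ) : ℂ) * Complex.I) := by
  have hB := realMat_posDef h
  have key := poisson 24 (t • realMat B) (hB.smul ht) 0
  have hlhs : ∀ x, gterm (t • realMat B) 0 x = thetaTerm B x ((t : ℂ) * Complex.I) := by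
    intro x
    simp only [gterm, thetaTerm, qf_smul_mat, qf_realMat, zero_dotProduct]
    congr 1
    push_cast
    ring_nf
    simp [Complex.I_sq]
  rw [tsum_congr hlhs] at key
  rw [theta, key]
  have hdet : (t • realMat B).det ^ (1 / 2 : ℝ) = t ^ 12 := by
    rw [det_smul, det_realMat h, mul_one, Fintype.card_fin, ← Real.rpow_natCast,
      ← Real.rpow_mul ht.le, ← Real.rpow_natCast]
    norm_num
  have hinv : ∀ x, qf (t • realMat B)⁻¹ (icast (gramEquiv h x) - 0) = 1 / t * nrm B x := by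
    intro x
    have hu := (hB.smul ht).isUnit
    rw [Matrix.isUnit_iff_isUnit_det] at hu
    have h1 : (t • realMat B) *ᵥ ((1 / t) • icast x) = icast (B *ᵥ x) := by
      rw [smul_mulVec, mulVec_smul, smul_smul, mul_one_div, div_self ht.ne', one_smul,
        realMat_mulVec]
    have h2 : (t • realMat B)⁻¹ *ᵥ icast (B *ᵥ x) = (1 / t) • icast x := by
      rw [← h1, mulVec_mulVec, nonsing_inv_mul _ hu, one_mulVec]
    show qf _ (icast (B *ᵥ x) - 0) = _
    rw [sub_zero, qf, h2, dotProduct_smul, smul_eq_mul]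
    congr 1
    rw [dotProduct_comm, ← realMat_mulVec, ← qf_realMat, qf]
  rw [hdet, ← (gramEquiv h).tsum_eq]
  simp only [hinv]
  push_cast
  rw [_root_.one_div_pow]
  congr 1
  rw [theta]
  refine tsum_congr fun x => ?_
  rw [thetaTerm]
  congr 1
  ring_nf
  simp [Complex.I_sq]

lemma theta_inv (h : EvenUnimod B) {z : ℂ} (hz : 0 < z.im) :
    theta B (-z)⁻¹ = z ^ 12 * theta B z := by
  let g : ℂ → ℂ := fun w => theta B (-w)⁻¹ - w ^ 12 * theta B w
  have hopen : IsOpen {w : ℂ | 0 < w.im} := isOpen_lt continuous_const Complex.continuous_im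
  have hconv : Convex ℝ {w : ℂ | 0 < w.im} := convex_halfSpace_im_gt 0
  have hinvmem : ∀ w : ℂ, 0 < w.im → 0 < ((-w)⁻¹).im := fun w hw =>
    (UpperHalfPlane.mk w hw).im_inv_neg_coe_pos
  have hg : AnalyticOnNhd ℂ g {w : ℂ | 0 < w.im} := by
    refine DifferentiableOn.analyticOnNhd ?_ hopen
    refine DifferentiableOn.sub ?_ ((differentiableOn_id.pow 12).mul (differentiableOn_theta h))
    refine (differentiableOn_theta h).comp (DifferentiableOn.inv differentiableOn_id.neg ?_) ?_
    · intro w hw h0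
      simp only [Pi.neg_apply, id, neg_eq_zero] at h0
      subst h0
      simp at hw
    · intro w hw
      exact hinvmem w hw
  have hax : ∀ t : ℝ, 0 < t → g ((t : ℂ) * Complex.I) = 0 := by
    intro t ht
    have e : (-((t : ℂ) * Complex.I))⁻¹ = ((1 / t : ℝ) : ℂ) * Complex.I := by
      rw [← neg_mul, mul_inv, Complex.inv_I]
      push_cast
      field_simp
    have e2 := theta_inv_imag h ht
    have e3 : (Complex.I : ℂ) ^ 12 = 1 := by
      rw [show (12 : ℕ) = 4 * 3 from rfl, pow_mul, Complex.I_pow_four, one_pow]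
    simp only [g, e, mul_pow, e3, e2]
    have : (t : ℂ) ≠ 0 := by exact_mod_cast ht.ne'
    push_cast
    field_simp
    ring
  have hfreq : ∃ᶠ w in 𝓝[≠] (Complex.I : ℂ), g w = 0 := by
    have hto : Filter.Tendsto (fun n : ℕ => ((1 + 1 / ((n : ℝ) + 1) : ℝ) : ℂ) * Complex.I) Filter.atTop
        (𝓝[≠] (Complex.I : ℂ)) := by
      refine tendsto_nhdsWithin_iff.2 ⟨?_, Filter.Eventually.of_forall fun n => ?_⟩
      · have := ((tendsto_const_nhds (x := (1 : ℝ))).add
          (tendsto_one_div_add_atTop_nhds_zero_nat (𝕜 := ℝ))).ofReal.mul_const (Complex.I : ℂ)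
        simpa using this
      · intro he
        have := congrArg Complex.im (Set.mem_singleton_iff.1 he)
        have hp : (0 : ℝ) < 1 / ((n : ℝ) + 1) := by positivity
        simp at this
        rw [one_div] at hp
        rcases this with h9 | h9 <;> exact Nat.cast_add_one_ne_zero n h9
    refine hto.frequently (Filter.Frequently.of_forall fun n => hax _ ?_)
    positivity
  have hI : (Complex.I : ℂ) ∈ {w : ℂ | 0 < w.im} := by simp
  have := hg.eqOn_zero_of_preconnected_of_frequently_eq_zero hconv.isPreconnected hI hfreq hz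
  exact sub_eq_zero.1 (by simpa [g] using this)

/-- The coefficient counts. -/
def ncnt (B : Matrix (Fin 24) (Fin 24) ℤ) (m : ℕ) : ℕ :=
  Nat.card {x : Fin 24 → ℤ // (nrm B x / 2).toNat = m}

lemma finite_fiber (h : EvenUnimod B) (m : ℕ) :
    Finite {x : Fin 24 → ℤ // (nrm B x / 2).toNat = m} := by
  have hs := (summable_theta_bound h one_pos).subtype {x | (nrm B x / 2).toNat = m}
  have hc : Summable fun _ : {x : Fin 24 → ℤ // (nrm B x / 2).toNat = m} =>
      Real.exp (-π * (1 * (2 * (m : ℝ)))) := by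
    refine hs.congr fun x => ?_
    have hx : nrm B x.1 = 2 * (m : ℤ) := by
      obtain ⟨k, hk⟩ := h.even x.1
      have h0 := nrm_nonneg h x.1
      have hm : (nrm B x.1 / 2).toNat = m := x.2
      unfold nrm at *
      omega
    simp only [Function.comp_apply, hx]
    push_cast; rfl
  by_contra hf
  have : Infinite {x : Fin 24 → ℤ // (nrm B x / 2).toNat = m} := not_finite_iff_infinite.1 hf
  exact (Real.exp_pos _).ne' ((summable_const_iff _).1 hc)

lemma hasSum_theta (h : EvenUnimod B) (τ : ℍ) :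
    HasSum (fun m => (ncnt B m : ℂ) • Function.Periodic.qParam 1 (τ : ℂ) ^ m) (theta B τ) := by
  have hs := (summable_theta h τ.im_pos).hasSum
  let e := Equiv.sigmaFiberEquiv fun x : Fin 24 → ℤ => (nrm B x / 2).toNat
  refine ((e.hasSum_iff).2 hs).sigma fun m => ?_
  have := finite_fiber h m
  have : Fintype {x : Fin 24 → ℤ // (nrm B x / 2).toNat = m} := Fintype.ofFinite _
  have hterm : ∀ x : {x : Fin 24 → ℤ // (nrm B x / 2).toNat = m},
      thetaTerm B x.1 τ = Function.Periodic.qParam 1 (τ : ℂ) ^ m := by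
    intro x
    have hx : nrm B x.1 = 2 * (m : ℤ) := by
      obtain ⟨k, hk⟩ := h.even x.1
      have h0 := nrm_nonneg h x.1
      have hm : (nrm B x.1 / 2).toNat = m := x.2
      unfold nrm at *
      omega
    rw [thetaTerm, hx, Function.Periodic.qParam, ← Complex.exp_nat_mul]
    congr 1
    push_cast; ring
  have := hasSum_fintype fun x : {x : Fin 24 → ℤ // (nrm B x / 2).toNat = m} => thetaTerm B x.1 τ
  rw [Finset.sum_congr rfl fun x _ => hterm x, Finset.sum_const, Finset.card_univ,
    nsmul_eq_mul, ← Nat.card_eq_fintype_card] at this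
  exact this

/-- The theta function on the upper half plane. -/
def thetaH (B : Matrix (Fin 24) (Fin 24) ℤ) (τ : ℍ) : ℂ := theta B τ

lemma thetaH_slash_S (h : EvenUnimod B) : thetaH B ∣[(12 : ℤ)] ModularGroup.S = thetaH B := by
  funext τ
  rw [SlashInvariantForm.slash_S_apply]
  simp only [thetaH]
  rw [theta_inv h τ.im_pos, _root_.zpow_neg, ← zpow_natCast]
  field_simp [UpperHalfPlane.ne_zero τ]
  norm_num
  ring

lemma thetaH_slash_T (h : EvenUnimod B) : thetaH B ∣[(12 : ℤ)] ModularGroup.T = thetaH B := by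
  funext τ
  rw [SL_slash_apply, modular_T_smul, ModularGroup.denom_apply]
  simp [thetaH, UpperHalfPlane.coe_vadd, add_comm, ← theta_add_one h (τ : ℂ), ModularGroup.coe_T]

/-- The theta series as a modular form. -/
def thetaForm (h : EvenUnimod B) : ModularForm 𝒮ℒ 12 where
  toFun := thetaH B
  slash_action_eq' γ hγ := by
    obtain ⟨g, rfl⟩ := hγ
    exact SlashInvariantForm.slash_action_generators_SL2Z (thetaH_slash_S h) (thetaH_slash_T h) g
  holo' := by
    rw [UpperHalfPlane.mdifferentiable_iff]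
    refine (differentiableOn_theta h).congr fun z hz => ?_
    simp [thetaH, UpperHalfPlane.ofComplex_apply_of_im_pos hz]
  bdd_at_cusps' {c} hc := by
    rw [Subgroup.IsArithmetic.isCusp_iff_isCusp_SL2Z] at hc
    rw [OnePoint.isBoundedAt_iff_forall_SL2Z hc]
    intro γ _
    rw [SlashInvariantForm.slash_action_generators_SL2Z (thetaH_slash_S h) (thetaH_slash_T h) γ]
    exact isBoundedAtImInfty_of_hasSum_qExpansion one_pos (hasSum_theta h)

lemma coeff_thetaForm (h : EvenUnimod B) (m : ℕ) :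
    (qExpansion 1 (thetaForm h)).coeff m = ncnt B m :=
  (ModularFormClass.qExpansion_coeff_unique one_pos one_mem_strictPeriods_SL
    (f := thetaForm h) (hasSum_theta h) m).symm

/-- The reference form of weight twelve with coefficients `1, 0, 196560, ...`. -/
def refForm : ModularForm 𝒮ℒ 12 :=
  (7 / 12 : ℂ) • ModularForm.mcast (by decide) (E₄.pow 3)
    + (5 / 12 : ℂ) • ModularForm.mcast (by decide) (E₆.pow 2)

lemma qExpansion_refForm : qExpansion 1 refForm =
    (7 / 12 : ℂ) • (qExpansion 1 E₄ * qExpansion 1 E₄ * qExpansion 1 E₄)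
      + (5 / 12 : ℂ) • (qExpansion 1 E₆ * qExpansion 1 E₆) := by
  rw [refForm, FunLike.coe_add, ModularForm.qExpansion_add one_pos one_mem_strictPeriods_SL,
    FunLike.coe_smul, FunLike.coe_smul,
    ModularForm.qExpansion_smul one_pos one_mem_strictPeriods_SL,
    ModularForm.qExpansion_smul one_pos one_mem_strictPeriods_SL, coe_mcast, coe_mcast,
    ModularForm.qExpansion_pow one_pos one_mem_strictPeriods_SL,
    ModularForm.qExpansion_pow one_pos one_mem_strictPeriods_SL]
  ring

lemma E4_coeffs : (qExpansion 1 E₄).coeff 0 = 1 ∧ (qExpansion 1 E₄).coeff 1 = 240 ∧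
    (qExpansion 1 E₄).coeff 2 = 2160 ∧ (qExpansion 1 E₄).coeff 3 = 6720 ∧
    (qExpansion 1 E₄).coeff 4 = 17520 := by
  refine ⟨?_, ?_, ?_, ?_, ?_⟩ <;>
  norm_num [EisensteinSeries.E_qExpansion_coeff _ ⟨2, rfl⟩,
    show bernoulli 4 = -1 / 30 by decide +kernel,
    show ArithmeticFunction.sigma 3 2 = 9 by decide +kernel,
    show ArithmeticFunction.sigma 3 3 = 28 by decide +kernel,
    show ArithmeticFunction.sigma 3 4 = 73 by decide +kernel]

lemma E6_coeffs : (qExpansion 1 E₆).coeff 0 = 1 ∧ (qExpansion 1 E₆).coeff 1 = -504 ∧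
    (qExpansion 1 E₆).coeff 2 = -16632 ∧ (qExpansion 1 E₆).coeff 3 = -122976 ∧
    (qExpansion 1 E₆).coeff 4 = -532728 := by
  refine ⟨?_, ?_, ?_, ?_, ?_⟩ <;>
  norm_num [EisensteinSeries.E_qExpansion_coeff _ ⟨3, rfl⟩,
    show bernoulli 6 = 1 / 42 by decide +kernel,
    show ArithmeticFunction.sigma 5 2 = 33 by decide +kernel,
    show ArithmeticFunction.sigma 5 3 = 244 by decide +kernel,
    show ArithmeticFunction.sigma 5 4 = 1057 by decide +kernel]

lemma refForm_coeffs : (qExpansion 1 refForm).coeff 0 = 1 ∧ (qExpansion 1 refForm).coeff 1 = 0 ∧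
    (qExpansion 1 refForm).coeff 2 = 196560 ∧ (qExpansion 1 refForm).coeff 3 = 16773120 ∧
    (qExpansion 1 refForm).coeff 4 = 398034000 := by
  obtain ⟨a0, a1, a2, a3, a4⟩ := E4_coeffs
  obtain ⟨b0, b1, b2, b3, b4⟩ := E6_coeffs
  refine ⟨?_, ?_, ?_, ?_, ?_⟩ <;>
  norm_num [qExpansion_refForm, PowerSeries.coeff_mul, Finset.Nat.antidiagonal_succ,
    -PowerSeries.coeff_zero_eq_constantCoeff, a0, a1, a2, a3, a4, b0, b1, b2, b3, b4]

theorem thetaForm_eq (h : EvenUnimod B) (h2 : ∀ x, nrm B x ≠ 2) : thetaForm h = refForm := by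
  obtain ⟨c0, c1, -, -, -⟩ := refForm_coeffs
  have n0 : ncnt B 0 = 1 := by
    rw [ncnt, Nat.card_eq_one_iff_unique]
    refine ⟨⟨fun x y => Subtype.ext ?_⟩, ⟨⟨0, by simp [nrm]⟩⟩⟩
    have key : ∀ x : Fin 24 → ℤ, (nrm B x / 2).toNat = 0 → x = 0 := by
      intro x hx
      by_contra hne
      have := h.pos x hne
      have := h2 x
      obtain ⟨k, hk⟩ := h.even x
      unfold nrm at *
      omega
    rw [key x.1 x.2, key y.1 y.2]
  have n1 : ncnt B 1 = 0 := by
    rw [ncnt, Nat.card_eq_zero]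
    refine Or.inl ⟨fun ⟨x, hx⟩ => ?_⟩
    have := h2 x
    obtain ⟨k, hk⟩ := h.even x
    unfold nrm at *
    omega
  refine sub_eq_zero.1 (ModularForm.sturm_bound_levelOne ?_)
  have hlt : ∀ i, i < 2 → (qExpansion 1 (thetaForm h - refForm)).coeff i = 0 := by
    intro i hi
    rw [ModularForm.qExpansion_sub one_pos one_mem_strictPeriods_SL, map_sub,
      coeff_thetaForm]
    interval_cases i <;> simp [n0, n1, c0, c1, -PowerSeries.coeff_zero_eq_constantCoeff]
  have := PowerSeries.nat_le_order _ 2 hlt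
  refine lt_of_lt_of_le ?_ this
  norm_num
  try decide

theorem counts (h : EvenUnimod B) (h2 : ∀ x, nrm B x ≠ 2) :
    ncnt B 2 = 196560 ∧ ncnt B 3 = 16773120 ∧ ncnt B 4 = 398034000 := by
  obtain ⟨-, -, c2, c3, c4⟩ := refForm_coeffs
  have e := fun m => coeff_thetaForm h m
  rw [thetaForm_eq h h2] at e
  refine ⟨?_, ?_, ?_⟩ <;> apply Nat.cast_injective (R := ℂ) <;> simp only [← e, c2, c3, c4] <;>
    norm_num

lemma ncard_eq_ncnt (h : EvenUnimod B) (m : ℕ) :
    {x : Fin 24 → ℤ | x ⬝ᵥ (B *ᵥ x) = 2 * (m : ℤ)}.ncard = ncnt B m := by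
  rw [ncnt, ← Nat.card_coe_set_eq]
  refine Nat.card_congr (Equiv.subtypeEquivRight fun x => ?_)
  have := nrm_nonneg h x
  obtain ⟨k, hk⟩ := h.even x
  simp only [Set.mem_ofPred_eq]
  unfold nrm at *
  omega

end Cfsg.Agent.Lie.Theta
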