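import Mathlib

/-!
Poisson summation for Gaussians of positive definite real quadratic forms.
-/

noncomputable section

namespace Cfsg.Agent.Lie.Theta

open Matrix Real Complex Finset

variable {n : ℕ}

/-- The quadratic form of a matrix. -/
def qf (B : Matrix (Fin n) (Fin n) ℝ) (v : Fin n → ℝ) : ℝ := v ⬝ᵥ (B *ᵥ v)

/-- Cast of an integer vector. -/
def icast (x : Fin n → ℤ) : Fin n → ℝ := fun i => (x i : ℝ)

lemma qf_smul (B : Matrix (Fin n) (Fin n) ℝ) (r : ℝ) (v : Fin n → ℝ) :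
    qf B (r • v) = r ^ 2 * qf B v := by
  unfold qf
  rw [mulVec_smul, dotProduct_smul, smul_dotProduct, smul_eq_mul, smul_eq_mul]; ring

lemma qf_smul_mat (B : Matrix (Fin n) (Fin n) ℝ) (r : ℝ) (v : Fin n → ℝ) :
    qf (r • B) v = r * qf B v := by
  unfold qf
  rw [smul_mulVec, dotProduct_smul, smul_eq_mul]

lemma qf_pos {B : Matrix (Fin n) (Fin n) ℝ} (hB : B.PosDef) {v : Fin n → ℝ} (hv : v ≠ 0) :
    0 < qf B v := by
  simpa [qf] using hB.dotProduct_mulVec_pos hv

lemma qf_nonneg {B : Matrix (Fin n) (Fin n) ℝ} (hB : B.PosDef) (v : Fin n → ℝ) :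
    0 ≤ qf B v := by
  rcases eq_or_ne v 0 with rfl | hv
  · simp [qf]
  · exact (qf_pos hB hv).le

lemma qf_lower {B : Matrix (Fin n) (Fin n) ℝ} (hB : B.PosDef) :
    ∃ ε : ℝ, 0 < ε ∧ ∀ v : Fin n → ℝ, ε * ∑ i, v i ^ 2 ≤ qf B v := by
  rcases Nat.eq_zero_or_pos n with rfl | hn
  · exact ⟨1, one_pos, fun v => by simpa using qf_nonneg hB v⟩
  have : Nonempty (Fin n) := ⟨⟨0, hn⟩⟩
  have hne : (Metric.sphere (0 : Fin n → ℝ) 1).Nonempty :=
    NormedSpace.sphere_nonempty.2 zero_le_one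
  have hc : Continuous (qf B) := by unfold qf; fun_prop
  obtain ⟨u, hu, hmin⟩ := (isCompact_sphere (0 : Fin n → ℝ) 1).exists_isMinOn hne hc.continuousOn
  have hu0 : u ≠ 0 := by intro h; simp [h] at hu
  have hq : 0 < qf B u := qf_pos hB hu0
  refine ⟨qf B u / n, by positivity, fun v => ?_⟩
  rcases eq_or_ne v 0 with rfl | hv
  · simp [qf]
  have hvn : 0 < ‖v‖ := norm_pos_iff.2 hv
  have h1 : qf B u ≤ qf B (‖v‖⁻¹ • v) := hmin (by
    simp [norm_smul, hvn.ne'])
  rw [qf_smul] at h1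
  have h2 : ∑ i, v i ^ 2 ≤ n * ‖v‖ ^ 2 := by
    calc ∑ i, v i ^ 2 ≤ ∑ _i : Fin n, ‖v‖ ^ 2 := by
          refine Finset.sum_le_sum fun i _ => ?_
          rw [← sq_abs]
          exact pow_le_pow_left₀ (abs_nonneg _) (by simpa using norm_le_pi_norm v i) 2
      _ = n * ‖v‖ ^ 2 := by simp
  calc qf B u / n * ∑ i, v i ^ 2 ≤ qf B u / n * (n * ‖v‖ ^ 2) := by gcongr
    _ = qf B u * ‖v‖ ^ 2 := by field_simp
    _ ≤ ‖v‖⁻¹ ^ 2 * qf B v * ‖v‖ ^ 2 := by gcongr
    _ = qf B v := by field_simp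

lemma summable_gauss_int {a : ℝ} (ha : 0 < a) (w : ℝ) :
    Summable fun k : ℤ => Real.exp (-a * ((k : ℝ) - w) ^ 2) := by
  have key : ∀ k : ℤ, Real.exp (-a * ((k : ℝ) - w) ^ 2) ≤
      Real.exp (a * (1 + 2 * |w|)) * Real.exp (-(a * |(k : ℝ)|)) := by
    intro k
    rw [← Real.exp_add]
    apply Real.exp_le_exp.2
    have h1 := abs_sub_abs_le_abs_sub (k : ℝ) w
    have h2 : 2 * |(k : ℝ) - w| - 1 ≤ ((k : ℝ) - w) ^ 2 := by
      nlinarith [sq_nonneg (|(k : ℝ) - w| - 1), sq_abs ((k : ℝ) - w)]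
    nlinarith [abs_nonneg (k : ℝ), abs_nonneg w, abs_nonneg ((k : ℝ) - w)]
  refine Summable.of_nonneg_of_le (fun k => (Real.exp_pos _).le) key (Summable.mul_left _ ?_)
  have hg : Summable fun k : ℕ => Real.exp (-(a * (k : ℝ))) := by
    have := Real.summable_exp_nat_mul_iff.2 (by linarith : -a < 0)
    refine this.congr fun k => ?_
    ring_nf
  apply Summable.of_nat_of_neg
  · simpa using hg
  · simpa using hg

lemma consEquiv_int_apply (p : ℤ × (Fin n → ℤ)) :
    Fin.consEquiv (fun _ : Fin (n + 1) => ℤ) p = Fin.cons p.1 p.2 := rfl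

lemma summable_pi_gauss {a : ℝ} (ha : 0 < a) : ∀ {n : ℕ} (w : Fin n → ℝ),
    Summable fun x : Fin n → ℤ => Real.exp (-a * ∑ i, ((x i : ℝ) - w i) ^ 2) := by
  intro n
  induction n with
  | zero => intro w; exact Summable.of_finite
  | succ n ih =>
    intro w
    rw [← (Fin.consEquiv fun _ : Fin (n + 1) => ℤ).summable_iff]
    refine ((summable_gauss_int ha (w 0)).mul_of_nonneg (ih (fun i => w i.succ))
      (fun k => (Real.exp_pos _).le) (fun x => (Real.exp_pos _).le)).congr fun p => ?_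
    rw [Function.comp_apply, consEquiv_int_apply, Fin.sum_univ_succ, ← Real.exp_add]
    simp [mul_add]

lemma summable_exp_qf {B : Matrix (Fin n) (Fin n) ℝ} (hB : B.PosDef) (w : Fin n → ℝ) :
    Summable fun x : Fin n → ℤ => Real.exp (-π * qf B (icast x - w)) := by
  obtain ⟨ε, hε, hb⟩ := qf_lower hB
  refine Summable.of_nonneg_of_le (fun _ => (Real.exp_pos _).le) (fun x => ?_)
    (summable_pi_gauss (a := π * ε) (by positivity) w)
  apply Real.exp_le_exp.2
  have := hb (icast x - w)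
  simp only [icast, Pi.sub_apply] at this
  nlinarith [Real.pi_pos]

/-- The Schur complement of the top left entry. -/
def schur (B : Matrix (Fin (n + 1)) (Fin (n + 1)) ℝ) : Matrix (Fin n) (Fin n) ℝ :=
  Matrix.of fun i j => B i.succ j.succ - B i.succ 0 * B j.succ 0 / B 0 0

/-- The first column below the diagonal. -/
def col0 (B : Matrix (Fin (n + 1)) (Fin (n + 1)) ℝ) : Fin n → ℝ := fun i => B i.succ 0

section decomposition

variable {B : Matrix (Fin (n + 1)) (Fin (n + 1)) ℝ}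

lemma apply_comm' (hB : B.PosDef) (i j : Fin (n + 1)) : B i j = B j i := by
  simpa using (hB.1.apply j i)

lemma mulVec_cons (hB : B.PosDef) (r : ℝ) (v : Fin n → ℝ) :
    B *ᵥ (Fin.cons r v) = Fin.cons (B 0 0 * r + col0 B ⬝ᵥ v)
      ((r + col0 B ⬝ᵥ v / B 0 0) • col0 B + schur B *ᵥ v) := by
  funext i
  refine Fin.cases ?_ (fun i => ?_) i
  · simp [mulVec, dotProduct, Fin.sum_univ_succ, col0, apply_comm' hB 0]
  · simp only [mulVec, dotProduct, Fin.sum_univ_succ, Fin.cons_zero, Fin.cons_succ, col0, schur,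
      Pi.add_apply, Pi.smul_apply, smul_eq_mul, of_apply]
    rw [Finset.sum_div, add_mul, Finset.sum_mul, add_assoc, ← Finset.sum_add_distrib]
    congr 1
    · ring
    · refine Finset.sum_congr rfl fun j _ => ?_
      ring

lemma dot_cons (r s : ℝ) (u v : Fin n → ℝ) :
    (Fin.cons r u : Fin (n + 1) → ℝ) ⬝ᵥ Fin.cons s v = r * s + u ⬝ᵥ v := by
  simp [dotProduct, Fin.sum_univ_succ]

lemma qf_cons (hB : B.PosDef) (r : ℝ) (v : Fin n → ℝ) :
    qf B (Fin.cons r v) = B 0 0 * (r + col0 B ⬝ᵥ v / B 0 0) ^ 2 + qf (schur B) v := by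
  have hb : B 0 0 ≠ 0 := hB.diag_pos.ne'
  simp only [qf, mulVec_cons hB, dot_cons, dotProduct_add, dotProduct_smul, smul_eq_mul]
  rw [dotProduct_comm v (col0 B)]
  field_simp
  ring

lemma schur_posDef (hB : B.PosDef) : (schur B).PosDef := by
  refine posDef_iff_dotProduct_mulVec.2 ⟨?_, fun {v} hv => ?_⟩
  · refine Matrix.IsHermitian.ext fun i j => ?_
    simp only [schur, of_apply, star_trivial, apply_comm' hB i.succ j.succ]
    ring
  · have hne : (Fin.cons (-(col0 B ⬝ᵥ v / B 0 0)) v : Fin (n + 1) → ℝ) ≠ 0 := by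
      intro h
      apply hv
      funext i
      simpa using congrFun h i.succ
    have := qf_pos hB hne
    rw [qf_cons hB] at this
    simpa [qf] using this

lemma det_schur (hB : B.PosDef) : B.det = B 0 0 * (schur B).det := by
  have hb : B 0 0 ≠ 0 := hB.diag_pos.ne'
  let d : Fin (n + 1) → ℝ := Fin.cons 0 fun j => B j.succ 0 / B 0 0
  let M : Matrix (Fin (n + 1)) (Fin (n + 1)) ℝ := Matrix.of fun i j => B i j - d j * B i 0
  have h1 : B.det = M.det := by
    refine det_eq_of_forall_row_eq_smul_add_const ?_ 0 ?_ ?_ (B := M.transpose) (A := B.transpose)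
      |> fun h => by simpa [det_transpose] using h
    · exact d
    · simp [d]
    · intro j i
      simp [M, d]
  rw [h1, det_succ_row_zero, Fin.sum_univ_succ]
  have hz : ∀ j : Fin n, M 0 j.succ = 0 := by
    intro j
    simp [M, d, apply_comm' hB 0 j.succ, hb]
  have h00 : M 0 0 = B 0 0 := by simp [M, d]
  have hsub : M.submatrix Fin.succ Fin.succ = schur B := by
    ext i j
    simp [M, d, schur]
    ring
  simp [hz, h00, hsub]

lemma qf_inv (hB : B.PosDef) (u0 : ℝ) (u : Fin n → ℝ) :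
    qf B⁻¹ (Fin.cons u0 u) =
      u0 ^ 2 / B 0 0 + qf (schur B)⁻¹ (u - (u0 / B 0 0) • col0 B) := by
  have hb : B 0 0 ≠ 0 := hB.diag_pos.ne'
  have hS := (schur_posDef hB).isUnit
  rw [Matrix.isUnit_iff_isUnit_det] at hS
  have hBu := hB.isUnit
  rw [Matrix.isUnit_iff_isUnit_det] at hBu
  set y := u - (u0 / B 0 0) • col0 B
  set z := (schur B)⁻¹ *ᵥ y
  have hv : B *ᵥ (Fin.cons ((u0 - col0 B ⬝ᵥ z) / B 0 0) z) = Fin.cons u0 u := by
    rw [mulVec_cons hB]
    congr 1
    · field_simp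
      ring
    · simp only [z, mulVec_mulVec, mul_nonsing_inv _ hS, one_mulVec]
      funext i
      simp only [y, Pi.add_apply, Pi.sub_apply, Pi.smul_apply, smul_eq_mul]
      field_simp
      ring
  have hv' : B⁻¹ *ᵥ Fin.cons u0 u = Fin.cons ((u0 - col0 B ⬝ᵥ z) / B 0 0) z := by
    rw [← hv, mulVec_mulVec, nonsing_inv_mul _ hBu, one_mulVec]
  rw [qf, hv', dot_cons, qf]
  simp only [y]
  rw [sub_dotProduct, smul_dotProduct, smul_eq_mul]
  field_simp
  ring

end decomposition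

lemma icast_cons (k : ℤ) (x : Fin n → ℤ) :
    icast (Fin.cons k x : Fin (n + 1) → ℤ) = Fin.cons (k : ℝ) (icast x) := by
  funext i
  refine Fin.cases ?_ (fun i => ?_) i <;> simp [icast]

lemma sub_cons (a : ℝ) (u : Fin n → ℝ) (w : Fin (n + 1) → ℝ) :
    (Fin.cons a u : Fin (n + 1) → ℝ) - w = Fin.cons (a - w 0) (u - fun i => w i.succ) := by
  funext i
  refine Fin.cases ?_ (fun i => ?_) i <;> simp

/-- The twisted Gaussian. -/
def gterm (B : Matrix (Fin n) (Fin n) ℝ) (w : Fin n → ℝ) (x : Fin n → ℤ) : ℂ :=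
  cexp ((-π * qf B (icast x) : ℝ) + (2 * π * (w ⬝ᵥ icast x) : ℝ) * I)

lemma summable_gterm {B : Matrix (Fin n) (Fin n) ℝ} (hB : B.PosDef) (w : Fin n → ℝ) :
    Summable (gterm B w) := by
  refine Summable.of_norm ((summable_exp_qf hB 0).congr fun x => ?_)
  rw [gterm, Complex.norm_exp]
  simp

theorem poisson : ∀ (n : ℕ) (B : Matrix (Fin n) (Fin n) ℝ), B.PosDef → ∀ w : Fin n → ℝ,
    ∑' x, gterm B w x =
      (((1 / B.det ^ (1 / 2 : ℝ)) * ∑' m, Real.exp (-π * qf B⁻¹ (icast m - w)) : ℝ) : ℂ) := by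
  intro n
  induction n with
  | zero =>
    intro B _ w
    simp [gterm, qf, tsum_fintype, det_fin_zero]
  | succ n ih =>
    intro B hB w
    have hS := schur_posDef hB
    have hb : 0 < B 0 0 := hB.diag_pos
    let w' : Fin n → ℝ := fun i => w i.succ
    let u : ℤ → ℝ := fun m => (m : ℝ) - w 0
    let E : ℤ → ℝ := fun m => Real.exp (-π / B 0 0 * u m ^ 2)
    let W : ℤ → Fin n → ℝ := fun m => w' + (u m / B 0 0) • col0 B
    let T : (Fin n → ℤ) × ℤ → ℂ := fun p => (E p.2 : ℂ) * gterm (schur B) (W p.2) p.1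
    have hE : Summable E := by
      refine (summable_gauss_int (a := π / B 0 0) (by positivity) (w 0)).congr fun m => ?_
      simp only [E, u]; ring_nf
    have hT : Summable T := by
      refine Summable.of_norm (((summable_exp_qf hS 0).mul_of_nonneg hE
        (fun _ => (Real.exp_pos _).le) (fun _ => (Real.exp_pos _).le)).congr fun p => ?_)
      simp only [T, norm_mul, gterm, Complex.norm_exp, Complex.norm_real, Real.norm_eq_abs]
      rw [abs_of_pos (show 0 < E p.2 from Real.exp_pos _)]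
      simp [mul_comm]
    have hcond : ∀ x : Fin n → ℤ,
        ∑' k : ℤ, gterm B w (Fin.cons k x) =
          ((1 / B 0 0 ^ (1 / 2 : ℝ) : ℝ) : ℂ) * ∑' m : ℤ, T (x, m) := by
      intro x
      let s : ℝ := col0 B ⬝ᵥ icast x
      let β : ℂ := I * (w 0 : ℂ) - (s : ℂ)
      let c : ℂ := cexp ((-π * (qf (schur B) (icast x) + s ^ 2 / B 0 0) : ℝ)
        + (2 * π * (w' ⬝ᵥ icast x) : ℝ) * I)
      have hk : ∀ k : ℤ, gterm B w (Fin.cons k x) =
          c * cexp (-π * (B 0 0 : ℂ) * (k : ℂ) ^ 2 + 2 * π * β * (k : ℂ)) := by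
        intro k
        have hw : w ⬝ᵥ icast (Fin.cons k x : Fin (n + 1) → ℤ) = w 0 * k + w' ⬝ᵥ icast x := by
          simp [icast_cons, dotProduct, Fin.sum_univ_succ, w', icast]
        rw [gterm, hw, icast_cons, qf_cons hB, ← Complex.exp_add]
        congr 1
        simp only [β, s]
        push_cast
        have hb' : (B 0 0 : ℂ) ≠ 0 := by exact_mod_cast hb.ne'
        field_simp
        ring
      rw [tsum_congr hk, tsum_mul_left, Complex.tsum_exp_neg_quadratic (by simpa using hb)]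
      have hpow : (B 0 0 : ℂ) ^ (1 / 2 : ℂ) = ((B 0 0 ^ (1 / 2 : ℝ) : ℝ) : ℂ) := by
        rw [Complex.ofReal_cpow hb.le]; push_cast; rfl
      rw [hpow, ← mul_assoc, mul_comm c, mul_assoc, ← tsum_mul_left]
      push_cast
      congr 1
      refine tsum_congr fun m => ?_
      simp only [T, E, W, gterm, c, β, s, u, add_dotProduct, smul_dotProduct, smul_eq_mul,
        Complex.ofReal_exp, ← Complex.exp_add]
      congr 1
      push_cast
      have hb' : (B 0 0 : ℂ) ≠ 0 := by exact_mod_cast hb.ne'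
      field_simp
      ring_nf
      simp [Complex.I_sq]
      ring
    have hsum := summable_gterm hB w
    have hsum' : Summable fun p : ℤ × (Fin n → ℤ) => gterm B w (Fin.cons p.1 p.2) :=
      ((Fin.consEquiv fun _ : Fin (n + 1) => ℤ).summable_iff.2 hsum).congr fun p => rfl
    rw [← (Fin.consEquiv fun _ : Fin (n + 1) => ℤ).tsum_eq]
    simp only [consEquiv_int_apply]
    have hswap : ∑' k : ℤ, ∑' x, gterm B w (Fin.cons k x) = ∑' x, ∑' k : ℤ, gterm B w (Fin.cons k x) :=
      (Summable.tsum_comm' (f := fun k x => gterm B w (Fin.cons k x)) hsum' hsum'.prod_factor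
        hsum'.prod_symm.prod_factor).symm
    rw [hsum'.tsum_prod, hswap]
    rw [tsum_congr hcond, tsum_mul_left]
    have hsw : ∑' x, ∑' m, T (x, m) = ∑' m : ℤ, ∑' x, T (x, m) :=
      (Summable.tsum_comm' (f := fun x m => T (x, m)) hT hT.prod_factor hT.prod_symm.prod_factor).symm
    have hm : ∀ m : ℤ, ∑' x, T (x, m) = ((E m * ((1 / (schur B).det ^ (1 / 2 : ℝ)) *
        ∑' y, Real.exp (-π * qf (schur B)⁻¹ (icast y - W m))) : ℝ) : ℂ) := by
      intro m
      simp only [T]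
      rw [tsum_mul_left, ih _ hS]
      push_cast; ring
    rw [hsw, tsum_congr hm, ← Complex.ofReal_tsum, ← Complex.ofReal_mul]
    congr 1
    have hR : Summable fun p : ℤ × (Fin n → ℤ) =>
        Real.exp (-π * qf B⁻¹ (icast (Fin.cons p.1 p.2 : Fin (n + 1) → ℤ) - w)) :=
      ((Fin.consEquiv fun _ : Fin (n + 1) => ℤ).summable_iff.2
        (summable_exp_qf hB.inv w)).congr fun p => rfl
    rw [← (Fin.consEquiv fun _ : Fin (n + 1) => ℤ).tsum_eq
      (fun m => Real.exp (-π * qf B⁻¹ (icast m - w)))]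
    simp only [consEquiv_int_apply]
    rw [hR.tsum_prod, det_schur hB, Real.mul_rpow hb.le hS.det_pos.le, ← tsum_mul_left,
      ← tsum_mul_left]
    refine tsum_congr fun m => ?_
    rw [← tsum_mul_left, ← tsum_mul_left, ← tsum_mul_left, ← tsum_mul_left]
    refine tsum_congr fun y => ?_
    rw [icast_cons, sub_cons, qf_inv hB]
    simp only [E, W, u, w', sub_add_eq_sub_sub]
    rw [show ∀ a b : ℝ, -π * (a + b) = -π * a + -π * b from fun a b => by ring, Real.exp_add,
      show -π / B 0 0 * ((m : ℝ) - w 0) ^ 2 = -π * (((m : ℝ) - w 0) ^ 2 / B 0 0) by ring]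
    ring

end Cfsg.Agent.Lie.Theta
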